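import Cfsg.Agent.Lib.Blocks.FrobeniusSylow.Two
import Cfsg.Agent.Lib.Chars.PermChar
import Cfsg.Agent.Lib.Chars.Indicator
import Cfsg.Agent.Lib.Chars.Ops
import Cfsg.Agent.Lib.Blocks.FrobeniusSylow.ThreeInvolution

/-!
# Transitive groups of prime degree p with Sylow normalizer of order 2p

Either the Sylow subgroup is normal or the group is sharply triply transitive.
-/

set_option autoImplicit false
set_option linter.unusedSectionVars false

namespace Cfsg.Agent.Lib.Blocks.FrobeniusSylow

open Cfsg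
open Cfsg.Agent.Lib
open MulAction
open scoped ComplexConjugate

universe u v

namespace PrimeDegree

variable {G : Type u} [Group G] [Finite G] {p : ℕ} [Fact p.Prime]
  (Ω : Type v) [MulAction G Ω] [Finite Ω] [FaithfulSMul G Ω]

/-- Elements of order p are fixed-point-free in degree p. -/
theorem smul_ne_self (hΩ : Nat.card Ω = p) {u : G} (hu : u ≠ 1) (hup : u ^ p = 1) (x : Ω) :
    u • x ≠ x := by
  intro hx
  have hp := (Fact.out : p.Prime)
  have hZ : IsPGroup p (Subgroup.zpowers u) := IsPGroup.of_card (n := 1) (by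
    rw [Nat.card_zpowers, orderOf_eq_prime hup hu, pow_one])
  have hmem : x ∈ fixedPoints (Subgroup.zpowers u) Ω := by
    rintro ⟨w, hw⟩
    obtain ⟨k, rfl⟩ := Subgroup.mem_zpowers_iff.1 hw
    exact mem_stabilizer_iff.1 ((stabilizer G x).zpow_mem (mem_stabilizer_iff.2 hx) k)
  have hmod := hZ.card_modEq_card_fixedPoints Ω
  rw [hΩ] at hmod
  have hdvd : p ∣ Nat.card (fixedPoints (Subgroup.zpowers u) Ω) :=
    Nat.modEq_zero_iff_dvd.1 (hmod.symm.trans (Nat.modEq_zero_iff_dvd.2 dvd_rfl))
  have hpos : 0 < Nat.card (fixedPoints (Subgroup.zpowers u) Ω) :=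
    Nat.card_pos_iff.2 ⟨⟨⟨x, hmem⟩⟩, inferInstance⟩
  have huniv : fixedPoints (Subgroup.zpowers u) Ω = Set.univ := by
    refine Set.eq_of_subset_of_ncard_le (Set.subset_univ _) ?_
    rw [Set.ncard_univ, hΩ, ← Nat.card_coe_set_eq]
    exact Nat.le_of_dvd hpos hdvd
  exact hu (FaithfulSMul.eq_of_smul_eq_smul (α := Ω) fun y => by
    rw [one_smul]
    exact (huniv ▸ Set.mem_univ y : y ∈ fixedPoints (Subgroup.zpowers u) Ω)
      ⟨u, Subgroup.mem_zpowers u⟩)

/-- An element with a fixed point is p-regular. -/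
theorem regular_of_smul_eq (hΩ : Nat.card Ω = p) {g : G} {x : Ω} (hx : g • x = x) :
    ¬ p ∣ orderOf g := by
  intro hd
  have ho : orderOf (g ^ (orderOf g / p)) = p := orderOf_pow_orderOf_div (orderOf_pos g).ne' hd
  refine smul_ne_self Ω hΩ (fun e => ?_) (by simpa only [ho] using pow_orderOf_eq_one (g ^ (orderOf g / p))) x ?_
  · rw [e, orderOf_one] at ho
    exact (Fact.out : p.Prime).one_lt.ne ho
  · exact mem_stabilizer_iff.1 ((stabilizer G x).pow_mem (mem_stabilizer_iff.2 hx) _)

theorem exists_smul_ne {g : G} (hg : g ≠ 1) : ∃ x : Ω, g • x ≠ x := by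
  by_contra! h
  exact hg (FaithfulSMul.eq_of_smul_eq_smul (α := Ω) fun y => by rw [h y, one_smul])

theorem card_fixedBy_lt (hΩ : Nat.card Ω = p) {g : G} (hg : g ≠ 1) :
    Nat.card (fixedBy Ω g) < p := by
  obtain ⟨x, hx⟩ := exists_smul_ne Ω hg
  rw [← hΩ, Nat.card_coe_set_eq, ← Set.ncard_univ]
  exact Set.ncard_lt_ncard ⟨Set.subset_univ _, fun h => hx (h (Set.mem_univ x))⟩

theorem centralizer_eq (hΩ : Nat.card Ω = p) {P : Sylow p G} (hP : Nat.card (P : Subgroup G) = p)
    {y : G} (hy : y ∈ (P : Subgroup G)) (hy1 : y ≠ 1) :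
    Subgroup.centralizer ({y} : Set G) = (P : Subgroup G) := by
  classical
  have hp := (Fact.out : p.Prime)
  have hyp : orderOf y = p := by
    have h : orderOf y ∣ p := hP ▸ Subgroup.orderOf_dvd_natCard _ hy
    exact (hp.eq_one_or_self_of_dvd _ h).resolve_left fun e => hy1 (orderOf_eq_one_iff.1 e)
  obtain ⟨x⟩ : Nonempty Ω := (Nat.card_pos_iff.1 (by rw [hΩ]; exact hp.pos)).1
  have : IsCyclic ↥(P : Subgroup G) := isCyclic_of_prime_card hP
  refine (Subgroup.eq_of_le_of_card_ge (fun c hc => Subgroup.mem_centralizer_singleton_iff.2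
    (congrArg Subtype.val (IsCyclic.isMulCommutative.is_comm.comm (⟨c, hc⟩ : ↥(P : Subgroup G)) ⟨y, hy⟩))) ?_).symm
  refine le_of_le_of_eq (Nat.card_le_card_of_injective
    (fun c : Subgroup.centralizer ({y} : Set G) => (c : G) • x) fun c d hcd => ?_) (hΩ.trans hP.symm)
  have hbij : Function.Bijective (fun k : Fin p => y ^ (k : ℕ) • x) := by
    refine Function.Injective.bijective_of_nat_card_le ?_ (by rw [hΩ, Nat.card_fin])
    intro i j hij
    by_contra hne
    have aux : ∀ a b : ℕ, a < b → b < p → y ^ a • x ≠ y ^ b • x := by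
      intro a b hab hb e
      rw [← Nat.add_sub_cancel' hab.le, pow_add, mul_smul, smul_left_cancel_iff] at e
      refine smul_ne_self Ω hΩ (u := y ^ (b - a)) ?_ ?_ x e.symm
      · exact pow_ne_one_of_lt_orderOf (by omega) (by omega)
      · rw [← pow_mul, mul_comm, pow_mul, ← hyp, pow_orderOf_eq_one, one_pow]
    rcases Nat.lt_or_ge (i : ℕ) (j : ℕ) with h | h
    · exact aux _ _ h j.isLt hij
    · exact aux _ _ (lt_of_le_of_ne h fun e => hne (Fin.ext e.symm)) i.isLt hij.symm
  refine Subtype.ext (FaithfulSMul.eq_of_smul_eq_smul (α := Ω) fun z => ?_)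
  obtain ⟨k, rfl⟩ := hbij.2 z
  have hc : ∀ e : Subgroup.centralizer ({y} : Set G), (e : G) * y ^ (k : ℕ) = y ^ (k : ℕ) * e :=
    fun e => ((show Commute (e : G) y from Subgroup.mem_centralizer_singleton_iff.1 e.2).pow_right _).eq
  simp only [← mul_smul, hc]
  simp only [mul_smul]
  exact congrArg (y ^ (k : ℕ) • ·) hcd

theorem card_sylow (hΩ : Nat.card Ω = p) (P : Sylow p G)
    (hN : p ∣ Nat.card (Subgroup.normalizer ((P : Subgroup G) : Set G))) :
    Nat.card (P : Subgroup G) = p := by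
  have hp := (Fact.out : p.Prime)
  have hPf := Subgroup.card_dvd_of_injective (MulAction.toPermHom G Ω) MulAction.toPerm_injective
  have e : Nat.card (Equiv.Perm Ω) = p.factorial := by rw [Nat.card_perm, hΩ]
  rw [e] at hPf
  obtain ⟨k, hk⟩ := P.isPGroup'.exists_card_eq
  have h1 : p ^ k ∣ p.factorial := hk ▸ ((Subgroup.card_subgroup_dvd_card _).trans hPf)
  have h2 : k ≤ 1 := by
    by_contra hlt
    have h3 : p * p ∣ p.factorial := (pow_two p) ▸ (pow_dvd_pow p (by omega : 2 ≤ k)).trans h1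
    rw [← Nat.mul_factorial_pred hp.ne_zero, Nat.mul_dvd_mul_iff_left hp.pos] at h3
    have := hp.dvd_factorial.1 h3
    have := hp.pos
    omega
  rcases Nat.le_one_iff_eq_zero_or_eq_one.1 h2 with rfl | rfl
  · exfalso
    have hG : p ∣ Nat.card G := hN.trans (Subgroup.card_subgroup_dvd_card _)
    have := P.dvd_card_of_dvd_card hG
    rw [hk, pow_zero] at this
    exact hp.not_dvd_one this
  · rw [hk, pow_one]

theorem isPretransitive (hΩ : Nat.card Ω = p) (hG : p ∣ Nat.card G) : IsPretransitive G Ω := by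
  classical
  obtain ⟨y, hy⟩ := exists_prime_orderOf_dvd_card' (G := G) p hG
  refine ⟨fun a b => ?_⟩
  have hbij : Function.Bijective (fun k : Fin p => y ^ (k : ℕ) • a) := by
    refine Function.Injective.bijective_of_nat_card_le ?_ (by rw [hΩ, Nat.card_fin])
    intro i j hij
    by_contra hne
    have aux : ∀ s t : ℕ, s < t → t < p → y ^ s • a ≠ y ^ t • a := by
      intro s t hst ht e
      rw [← Nat.add_sub_cancel' hst.le, pow_add, mul_smul, smul_left_cancel_iff] at e
      refine smul_ne_self Ω hΩ (u := y ^ (t - s)) ?_ ?_ a e.symm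
      · exact pow_ne_one_of_lt_orderOf (by omega) (by omega)
      · rw [← pow_mul, mul_comm, pow_mul, ← hy, pow_orderOf_eq_one, one_pow]
    rcases Nat.lt_or_ge (i : ℕ) (j : ℕ) with h | h
    · exact aux _ _ h j.isLt hij
    · exact aux _ _ (lt_of_le_of_ne h fun e => hne (Fin.ext e.symm)) i.isLt hij.symm
  obtain ⟨k, hk⟩ := hbij.2 b
  exact ⟨_, hk⟩

/-- A nontrivial linear character trivial on P forces P to be normal. -/
theorem normal_of_hom (hΩ : Nat.card Ω = p) (P : Sylow p G) (hP : Nat.card (P : Subgroup G) = p)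
    (hN : Nat.card (Subgroup.normalizer ((P : Subgroup G) : Set G)) = 2 * p)
    (φ : G →* ℂˣ) (hφ : φ ≠ 1) (hφP : ∀ y ∈ (P : Subgroup G), φ y = 1) :
    (P : Subgroup G).Normal := by
  classical
  have hp := (Fact.out : p.Prime)
  have hpK : (P : Subgroup G) ≤ φ.ker := fun y hy => MonoidHom.mem_ker.2 (hφP y hy)
  set K := φ.ker with hK
  set N := Subgroup.normalizer ((P : Subgroup G) : Set G) with hNdef
  have hPN : (P : Subgroup G) ≤ N := Subgroup.le_normalizer
  -- the normalizer in the kernel is P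
  have hNK : N ⊓ K = (P : Subgroup G) := by
    obtain ⟨c, hc⟩ : p ∣ Nat.card ↥(N ⊓ K) := hP ▸ Subgroup.card_dvd_of_le (le_inf hPN hpK)
    have hd : Nat.card ↥(N ⊓ K) ∣ 2 * p := hN ▸ Subgroup.card_dvd_of_le inf_le_left
    rw [hc, mul_comm 2 p, Nat.mul_dvd_mul_iff_left hp.pos] at hd
    rcases (Nat.dvd_prime Nat.prime_two).1 hd with rfl | rfl
    · exact (Subgroup.eq_of_le_of_card_ge (le_inf hPN hpK) (by rw [hc, hP, mul_one])).symm
    · exfalso
      have hle : N ≤ K := inf_eq_left.1 (Subgroup.eq_of_le_of_card_ge inf_le_left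
        (by rw [hc, hN, mul_comm]))
      have := P.normalizer_sup_eq_top' hpK
      refine hφ (MonoidHom.ext fun g => ?_)
      have hg : g ∈ N ⊔ K := this.ge (Subgroup.mem_top g)
      rw [sup_eq_right.2 hle] at hg
      exact MonoidHom.mem_ker.1 hg
  let Q : Sylow p K := P.subtype hpK
  have hQ : ∀ k : K, k ∈ (Q : Subgroup K) ↔ (k : G) ∈ (P : Subgroup G) := fun k => by
    rw [Sylow.coe_subtype, Subgroup.mem_subgroupOf]
  have hNC : Subgroup.normalizer (Q : Set K) ≤ Subgroup.centralizer (Q : Set K) := by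
    intro k hk
    have hkP : (k : G) ∈ (P : Subgroup G) := by
      rw [← hNK]
      refine Subgroup.mem_inf.2 ⟨?_, k.2⟩
      rw [hNdef, Subgroup.mem_normalizer_iff]
      intro z
      constructor
      · intro hz
        have := (Subgroup.mem_normalizer_iff.1 hk ⟨z, hpK hz⟩).1 ((hQ _).2 hz)
        exact (hQ _).1 this
      · intro hz
        have hzK : z ∈ K := by
          have h1 := K.mul_mem (K.mul_mem (K.inv_mem k.2) (hpK hz)) k.2
          simpa [mul_assoc] using h1
        exact (hQ ⟨z, hzK⟩).1 ((Subgroup.mem_normalizer_iff.1 hk ⟨z, hzK⟩).2 ((hQ _).2 hz))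
    have : IsCyclic ↥(P : Subgroup G) := isCyclic_of_prime_card hP
    exact Subgroup.mem_centralizer_iff.2 fun z hz => Subtype.ext (show (z : G) * k = k * z from
      congrArg Subtype.val
        (IsCyclic.isMulCommutative.is_comm.comm (⟨z, (hQ z).1 hz⟩ : ↥(P : Subgroup G)) ⟨k, hkP⟩))
  set T := MonoidHom.transferSylow Q hNC with hT
  have hndvd : ¬ p ∣ Nat.card T.ker := MonoidHom.not_dvd_card_ker_transferSylow Q hNC
  have hreg : ∀ k : K, k ∈ T.ker ↔ ¬ p ∣ orderOf k := by
    intro k
    constructor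
    · intro hk hd
      exact hndvd (hd.trans (Subgroup.orderOf_dvd_natCard _ hk))
    · intro hk
      obtain ⟨j, hj⟩ := IsPGroup.iff_orderOf.1 Q.isPGroup' (T k)
      have h1 : orderOf (T k) ∣ orderOf k := orderOf_map_dvd T k
      rw [hj] at h1
      rcases Nat.eq_zero_or_pos j with rfl | hj0
      · rw [pow_zero] at hj
        exact MonoidHom.mem_ker.2 (orderOf_eq_one_iff.1 hj)
      · exact absurd ((dvd_pow_self p hj0.ne').trans h1) hk
  let W : Subgroup G := T.ker.map K.subtype
  have hWn : W.Normal := ⟨fun n hn g => by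
    obtain ⟨k, hk, rfl⟩ := hn
    refine ⟨⟨g * (k : G) * g⁻¹, (MonoidHom.normal_ker φ).conj_mem _ k.2 g⟩, ?_, rfl⟩
    rw [SetLike.mem_coe, hreg, ← Subgroup.orderOf_coe]
    show ¬ p ∣ orderOf (g * (k : G) * g⁻¹)
    rw [show orderOf (g * (k : G) * g⁻¹) = orderOf (k : G) from
      MulEquiv.orderOf_eq (MulAut.conj g) (k : G), Subgroup.orderOf_coe]
    exact (hreg k).1 hk⟩
  have hWcard : ¬ p ∣ Nat.card W := by
    rw [Subgroup.card_map_of_injective K.subtype_injective]
    exact hndvd
  -- the normal complement is trivial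
  have hW : W = ⊥ := by
    have hG : p ∣ Nat.card G := hP ▸ Subgroup.card_subgroup_dvd_card (P : Subgroup G)
    have := isPretransitive Ω hΩ hG
    have : IsPreprimitive G Ω := IsPreprimitive.of_prime_card (hΩ ▸ hp)
    by_contra hne
    obtain ⟨w, hw, hw1⟩ := (Subgroup.bot_or_exists_ne_one W).resolve_left hne
    obtain ⟨x, hx⟩ := exists_smul_ne Ω hw1
    have hW' : IsPretransitive W Ω := IsQuasiPreprimitive.isPretransitive_of_normal (G := G)
      fun e => hx ((e ▸ Set.mem_univ x : x ∈ fixedPoints W Ω) ⟨w, hw⟩)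
    exact hWcard (hΩ ▸ index_stabilizer_of_transitive W x ▸ Subgroup.index_dvd_card _)
  have hPK : (P : Subgroup G) = K := by
    refine le_antisymm hpK fun g hg => ?_
    have hker : T.ker = ⊥ := by
      rw [← Subgroup.map_eq_bot_iff_of_injective _ K.subtype_injective]
      exact hW
    have hcomp : Subgroup.IsComplement' T.ker (Q : Subgroup K) :=
      MonoidHom.ker_transferSylow_isComplement' Q hNC
    rw [hker, Subgroup.isComplement'_bot_left] at hcomp
    exact (hQ ⟨g, hg⟩).1 (hcomp ▸ Subgroup.mem_top _)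
  rw [hPK]
  exact MonoidHom.normal_ker φ

variable {Ω}

theorem permChar_apply (g : G) :
    Chars.permChar (G := G) Ω g = (Nat.card (fixedBy Ω g) : ℂ) := rfl

end PrimeDegree

open PrimeDegree in
/-- Prime degree, Sylow normalizer of order twice the prime. -/
theorem normal_or_sharply_three_transitive {G : Type u} [Group G] [Finite G] {p : ℕ} [Fact p.Prime]
    (hp : 5 ≤ p) {Ω : Type v} [MulAction G Ω] [Fintype Ω] [FaithfulSMul G Ω]
    (hΩ : Fintype.card Ω = p) (P : Sylow p G)
    (hN : Nat.card (Subgroup.normalizer ((P : Subgroup G) : Set G)) = 2 * p) :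
    (P : Subgroup G).Normal ∨
      (IsMultiplyPretransitive G Ω 3 ∧ ∀ g : G, 3 ≤ Nat.card (fixedBy Ω g) → g = 1) := by
  classical
  have hpp := (Fact.out : p.Prime)
  have hΩ' : Nat.card Ω = p := by rw [Nat.card_eq_fintype_card, hΩ]
  have hP := card_sylow Ω hΩ' P (hN ▸ dvd_mul_left p 2)
  have htrans := isPretransitive Ω hΩ' (hP ▸ Subgroup.card_subgroup_dvd_card (P : Subgroup G))
  have : Nonempty Ω := (Nat.card_pos_iff.1 (by omega)).1
  have hC := fun y (hy : y ∈ (P : Subgroup G)) hy1 => centralizer_eq Ω hΩ' hP hy hy1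
  have h : Data P 2 := data_two hP hN hC
  let : Fintype G := Fintype.ofFinite _
  let : Fintype (↥(P : Subgroup G) →* ℂˣ) := Fintype.ofFinite _
  obtain ⟨S⟩ := nonempty_twoShape h hP hp hC
  -- values of the permutation character
  set f : G → ℕ := fun g => Nat.card (fixedBy Ω g) with hf
  have hf1 : f 1 = p := by
    simp only [hf, fixedBy_one_eq_univ, Nat.card_univ, hΩ']
  have hflt : ∀ g : G, g ≠ 1 → f g < p := fun g hg => card_fixedBy_lt Ω hΩ' hg
  have hfP : ∀ x : ↥(P : Subgroup G), x ≠ 1 → f (x : G) = 0 := by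
    intro x hx
    refine Nat.card_eq_zero.2 (Or.inl ⟨fun z => ?_⟩)
    refine smul_ne_self Ω hΩ' (fun e => hx (Subtype.ext e)) ?_ z.1 z.2
    exact orderOf_dvd_iff_pow_eq_one.1 ((Subgroup.orderOf_dvd_natCard _ x.2).trans hP.dvd)
  let Θ : G → ℂ := fun g => Chars.permChar Ω g - 1
  have hΘ : ∀ g, Θ g = (f g : ℂ) - 1 := fun g => rfl
  have hΘc : IsCharacter G Θ := Chars.isCharacter_permChar_sub_one Ω
  obtain ⟨n, hn⟩ := Chars.isCharacter_exists_nat_decomp hΘc
  have hΘapp : ∀ g, ∑ ψ : IrrCharacter G, (n ψ : ℂ) * (ψ : G → ℂ) g = (f g : ℂ) - 1 := fun g => by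
    rw [← hΘ, hn, Finset.sum_apply]; rfl
  have hΘ1 : classInner Θ (Chars.trivialIrr G : G → ℂ) = 0 := by
    rw [show Θ = Chars.permChar Ω - fun _ => (1 : ℂ) from rfl, Chars.classInner_sub_left,
      show (Chars.trivialIrr G : G → ℂ) = fun _ => 1 from rfl, Chars.classInner_permChar_one,
      Chars.card_orbits_eq_one]
    have e := Chars.classInner_irr_self (Chars.trivialIrr G)
    rw [show (Chars.trivialIrr G : G → ℂ) = fun _ => 1 from rfl] at e
    rw [e, Nat.cast_one, sub_self]
  have hn0 : n (Chars.trivialIrr G) = 0 := by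
    rw [hn, Chars.classInner_sum_smul_irr] at hΘ1
    exact_mod_cast hΘ1
  -- exceptional characters
  have hδ2 : (S.δ : ℂ) * S.δ = 1 := by rcases S.sign_δ with e | e <;> simp [e]
  have ha2 : S.a * S.a = 1 := by rcases S.sign_a with e | e <;> simp [e]
  obtain ⟨t₀, ht₀⟩ : ∃ t : ↥(P : Subgroup G) →* ℂˣ, t ≠ 1 := by
    have : Nontrivial (↥(P : Subgroup G) →* ℂˣ) := Finite.one_lt_card_iff_nontrivial.1 (by
      rw [card_hom h]; omega)
    exact exists_ne 1
  have hrep : ∀ η ∈ S.Y, ∃ t : ↥(P : Subgroup G) →* ℂˣ, t ≠ 1 ∧ S.ζ t = η := by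
    intro η hη
    obtain ⟨t, ht⟩ := Finset.card_pos.1 (by rw [S.fibre η hη]; norm_num : 0 < Finset.card _)
    exact ⟨t, Finset.ne_of_mem_erase (Finset.mem_filter.1 ht).1, (Finset.mem_filter.1 ht).2⟩
  set e : ℕ := charDegree (S.ζ t₀ : G → ℂ) with he
  have hepos : 0 < e := Nat.pos_of_ne_zero (HeightZero.charDegree_eq _).2
  have hedeg : (e : ℤ) = S.δ * (1 + S.a * (charDegree (S.chi : G → ℂ) : ℤ)) := S.degree_ζ (S.mem t₀ ht₀)
  have hall : ∀ η ∈ S.Y, charDegree (η : G → ℂ) = e := fun η hη => by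
    exact_mod_cast (S.degree_ζ hη).trans hedeg.symm
  have hYsum : ∀ c : IrrCharacter G → ℕ,
      ∑ η ∈ S.Y, c η * charDegree (η : G → ℂ) = (∑ η ∈ S.Y, c η) * e := fun c => by
    rw [Finset.sum_mul]
    exact Finset.sum_congr rfl fun η hη => by rw [hall η hη]
  obtain ⟨hbound, hothers⟩ := S.degree_bound n (N := p - 1) (by
    rw [hΘapp, hf1, Nat.cast_sub hpp.one_le, Nat.cast_one])
  rw [hn0, zero_add, hYsum n] at hbound hothers
  set A := n S.chi with hA
  have hc : ∀ t : ↥(P : Subgroup G) →* ℂˣ, t ≠ 1 → (n (S.ζ t) : ℤ) = S.δ * (1 + A * S.a) := by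
    intro t ht
    have e1 := TwoShape.coeff_eq_neg h (b := fun t => (n (S.ζ t) : ℂ))
      (k := (S.δ : ℂ) * (-1 - (A : ℂ) * S.a)) (fun x hx => by
        have e2 := S.sum_apply_eq n hx
        rw [hΘapp, hfP x hx, hn0] at e2
        push_cast at e2
        linear_combination (-(S.δ : ℂ)) * e2 - (∑ t ∈ (Finset.univ : Finset (↥(P : Subgroup G) →* ℂˣ)).erase 1,
          (n (S.ζ t) : ℂ) * ch t x) * hδ2) ht
    rw [← Int.cast_inj (α := ℂ)]
    push_cast
    linear_combination e1
  set c := n (S.ζ t₀) with hcdef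
  have hcY : ∀ η ∈ S.Y, n η = c := fun η hη => by
    obtain ⟨t, ht, rfl⟩ := hrep η hη
    exact_mod_cast (hc t ht).trans (hc t₀ ht₀).symm
  rw [Finset.sum_congr rfl hcY, Finset.sum_const, smul_eq_mul] at hbound hothers
  have hr := S.card
  have hdchi := S.degree_chi_eq hP
  have hχpos : 0 < charDegree (S.chi : G → ℂ) := Nat.pos_of_ne_zero (HeightZero.charDegree_eq _).2
  set d := charDegree (S.chi : G → ℂ) with hd
  by_cases hc0 : c = 0
  swap
  · -- a linear character trivial on P
    refine Or.inl ?_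
    have he2 : e ≤ 2 := by
      by_contra hlt
      have h1 : S.Y.card * 1 * 3 ≤ S.Y.card * c * e :=
        Nat.mul_le_mul (Nat.mul_le_mul_left _ (Nat.pos_of_ne_zero hc0)) (by omega)
      omega
    have hcong : (p : ℤ) ∣ (e : ℤ) - 2 * S.δ := by
      refine hdchi.trans ⟨S.δ * S.a, ?_⟩
      linear_combination hedeg + S.δ * ha2
    have hsmall : (e : ℤ) - 2 * S.δ = 0 := by
      refine Int.eq_zero_of_abs_lt_dvd hcong ?_
      rw [abs_lt]
      rcases S.sign_δ with e' | e' <;> omega
    have hδ1 : S.δ = 1 := by rcases S.sign_δ with e' | e' <;> omega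
    rw [hδ1, one_mul] at hedeg
    have hd1 : S.a = 1 ∧ d = 1 := by
      rcases S.sign_a with e' | e' <;> rw [e'] at hedeg <;> omega
    obtain ⟨φ, hφ⟩ := Chars.exists_hom_of_degree_one (Chars.irr_isCharacter S.chi) (by
      rw [← (HeightZero.charDegree_eq S.chi).1, ← hd, hd1.2, Nat.cast_one])
    refine normal_of_hom Ω hΩ' P hP hN φ (fun h1 => S.chi_ne (Subtype.ext ?_)) fun y hy => ?_
    · rw [hφ, h1]; simp; rfl
    · by_cases hy1 : y = 1
      · rw [hy1, map_one]
      · have := S.value_chi ⟨y, hy⟩ fun e' => hy1 (congrArg Subtype.val e')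
        rw [hφ, hd1.1, Int.cast_one] at this
        exact Units.ext this
  · -- the permutation character is 1 + chi
    refine Or.inr ?_
    have hct := hc t₀ ht₀
    rw [← hcdef, hc0, Nat.cast_zero, eq_comm, mul_eq_zero] at hct
    have hAa : 1 + (A : ℤ) * S.a = 0 := hct.resolve_left (by rcases S.sign_δ with e' | e' <;> omega)
    obtain ⟨hA1, ha⟩ : A = 1 ∧ S.a = -1 := by
      rcases S.sign_a with e' | e' <;> rw [e'] at hAa <;> exact ⟨by omega, by omega⟩
    rw [hc0, mul_zero, zero_mul, add_zero, hA1, one_mul] at hbound hothers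
    rw [ha, sub_neg_eq_add] at hdchi
    have hdp : d = p - 1 := by
      have := Int.le_of_dvd (by omega) hdchi
      omega
    rw [ha, hdp, Nat.cast_sub hpp.one_le] at hedeg
    have hδ : S.δ = -1 := by
      rcases S.sign_δ with e' | e'
      · rw [e'] at hedeg; omega
      · exact e'
    have hep : e = p - 2 := by rw [hδ] at hedeg; omega
    have hothers := hothers hdp
    have hchi : ∀ g, (S.chi : G → ℂ) g = (f g : ℂ) - 1 := by
      intro g
      rw [← hΘapp g, Finset.sum_eq_single S.chi (fun ψ _ hψ => ?_) (by simp), ← hA, hA1, Nat.cast_one,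
        one_mul]
      by_cases h1 : ψ = Chars.trivialIrr G
      · rw [h1, hn0, Nat.cast_zero, zero_mul]
      by_cases h3 : ψ ∈ S.Y
      · rw [hcY ψ h3, hc0, Nat.cast_zero, zero_mul]
      · rw [hothers ψ h1 hψ h3, Nat.cast_zero, zero_mul]
    have hη : ∀ η ∈ S.Y, ∀ g : G, ¬ p ∣ orderOf g → (η : G → ℂ) g = (f g : ℂ) - 2 := by
      intro η hη g hg
      have e1 := S.regular η hη g hg
      rw [ha, hδ, hchi g] at e1
      push_cast at e1
      linear_combination e1
    -- alternating square of an exceptional character: at most two fixed points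
    have hfix : ∀ g : G, 3 ≤ f g → g = 1 := by
      obtain ⟨m, ρ, hρ⟩ := Chars.irr_isCharacter (S.ζ t₀)
      obtain ⟨σ, α, -, hαc, hsum, hdiff⟩ := Chars.exists_sym_alt ρ
      have hα : ∀ g, 2 * α g = (S.ζ t₀ : G → ℂ) g * (S.ζ t₀ : G → ℂ) g - (S.ζ t₀ : G → ℂ) (g * g) := by
        intro g
        rw [← hρ, hsum, hdiff]; ring
      obtain ⟨k, hk⟩ := Chars.isCharacter_exists_nat_decomp hαc
      have hkapp : ∀ g, ∑ ψ : IrrCharacter G, (k ψ : ℂ) * (ψ : G → ℂ) g = α g := fun g => by
        rw [hk, Finset.sum_apply]; rfl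
      set K : ℤ := (k S.chi : ℤ) + 1 - k (Chars.trivialIrr G) with hK
      let t₂ := t₀ * t₀
      have ht₂ : t₂ ≠ 1 := fun e' => inv_ne_self h ht₀
        (MonoidHom.ext fun x => inv_eq_of_mul_eq_one_right (DFunLike.congr_fun e' x))
      have hb : ∀ t : ↥(P : Subgroup G) →* ℂˣ, t ≠ 1 →
          (k (S.ζ t) : ℤ) + ((if t = t₂ then 1 else 0) + if t = t₂⁻¹ then 1 else 0) = K := by
        intro t ht
        have e1 := TwoShape.coeff_eq_neg h
          (b := fun t => (k (S.ζ t) : ℂ) + ((if t = t₂ then 1 else 0) + if t = t₂⁻¹ then 1 else 0))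
          (k := -(K : ℂ)) (fun x hx => by
            have e2 := S.sum_apply_eq k hx
            rw [hkapp, ha, hδ] at e2
            have hxx : x * x ≠ 1 := fun e' => hx (eq_one_of_sq_odd (by omega) e')
            have e3 := hα (x : G)
            rw [← Subgroup.coe_mul, S.value_ζ t₀ ht₀ x hx, S.value_ζ t₀ ht₀ _ hxx, hδ, ch_inv, ch_inv,
              show ch t₀ (x * x) = ch t₀ x * ch t₀ x by simp [ch]] at e3
            simp only [add_mul, Finset.sum_add_distrib, ite_mul, one_mul, zero_mul,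
              Finset.sum_ite_eq', Finset.mem_erase, Finset.mem_univ, and_true, ne_eq, ht₂,
              hom_inv_ne_one ht₂, not_false_eq_true, if_true]
            rw [ch_inv, show ch t₂ x = ch t₀ x * ch t₀ x from ch_mul t₀ t₀ x, hK]
            have hz : ch t₀ x ≠ 0 := Units.ne_zero _
            push_cast at e2 e3 ⊢
            field_simp at e3 ⊢
            linear_combination -e3 / 2 + (ch t₀ x) ^ 2 * e2) ht
        rw [← Int.cast_inj (α := ℂ)]
        rw [neg_neg] at e1
        push_cast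
        exact e1
      have hK1 : 1 ≤ K := by
        have e1 := hb t₂ ht₂
        rw [if_pos rfl, if_neg (inv_ne_self h ht₂).symm] at e1
        omega
      have hsumY : (2 : ℤ) * ∑ η ∈ S.Y, (k η : ℤ) = ((p : ℤ) - 1) * K - 2 := by
        rw [← S.sum_Y fun η => (k η : ℤ),
          Finset.sum_congr rfl (g := fun t => K - ((if t = t₂ then (1 : ℤ) else 0) + if t = t₂⁻¹ then 1 else 0))
            (fun t ht => by linarith [hb t (Finset.ne_of_mem_erase ht)]),
          Finset.sum_sub_distrib, Finset.sum_add_distrib, Finset.sum_const, nsmul_eq_mul,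
          Finset.card_erase_of_mem (Finset.mem_univ _), Finset.card_univ, ← Nat.card_eq_fintype_card,
          card_hom h, hP, Nat.cast_sub hpp.one_le, Finset.sum_ite_eq', Finset.sum_ite_eq',
          if_pos (Finset.mem_erase.2 ⟨ht₂, Finset.mem_univ _⟩),
          if_pos (Finset.mem_erase.2 ⟨hom_inv_ne_one ht₂, Finset.mem_univ _⟩)]
        norm_num
      obtain ⟨hb2, ho2⟩ := S.degree_bound k (N := (p - 2) * (S.Y.card - 1)) (by
        rw [hkapp]
        have e3 := hα 1
        have hpC : (p : ℂ) = (S.Y.card : ℂ) * 2 + 1 := by exact_mod_cast hr.symm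
        rw [mul_one, ← (HeightZero.charDegree_eq _).1, ← he, hep, Nat.cast_sub (by omega : 2 ≤ p)] at e3
        rw [Nat.cast_mul, Nat.cast_sub (by omega : 2 ≤ p), Nat.cast_sub (by omega : 1 ≤ S.Y.card)]
        push_cast at e3 ⊢
        linear_combination e3 / 2 + ((p : ℂ) - 2) / 2 * hpC)
      rw [hYsum k, hep, ← hd, hdp] at hb2 ho2
      set kY := ∑ η ∈ S.Y, k η with hkY
      have hsumY' : (kY : ℤ) = (S.Y.card : ℤ) * K - 1 := by
        have : (p : ℤ) = S.Y.card * 2 + 1 := by exact_mod_cast hr.symm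
        rw [← Nat.cast_sum, ← hkY, this] at hsumY
        linarith
      have hge : S.Y.card - 1 ≤ kY := by
        have := le_mul_of_one_le_right (Int.natCast_nonneg S.Y.card) hK1
        omega
      have hprod := Nat.mul_le_mul_right (p - 2) hge
      rw [mul_comm (p - 2)] at hb2 ho2
      have hk0 : k (Chars.trivialIrr G) = 0 := by omega
      have hkχ : k S.chi = 0 := by
        by_contra hne
        have : 1 * (p - 1) ≤ k S.chi * (p - 1) :=
          Nat.mul_le_mul_right _ (Nat.pos_of_ne_zero hne)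
        omega
      have hkY' : kY = S.Y.card - 1 := by
        refine le_antisymm (Nat.le_of_mul_le_mul_right (a := kY) (c := p - 2) ?_ (by omega)) hge
        omega
      have hoth := ho2 (by rw [hk0, hkχ, hkY', zero_mul, zero_add, zero_add])
      intro g h3
      by_contra hg1
      have hfne : (fixedBy Ω g).Nonempty := by
        rw [← Set.ncard_pos, ← Nat.card_coe_set_eq]
        exact lt_of_lt_of_le (by norm_num) h3
      obtain ⟨z, hz⟩ := hfne
      have hreg : ¬ p ∣ orderOf g := regular_of_smul_eq Ω hΩ' hz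
      have hreg2 : ¬ p ∣ orderOf (g * g) := fun hd' => hreg (hd'.trans (by
        rw [← pow_two]; exact orderOf_pow_dvd 2))
      have hval : α g = ((f g : ℂ) - 2) * ((S.Y.card - 1 : ℕ) : ℂ) := by
        rw [← hkapp, ← Finset.sum_subset (Finset.subset_univ S.Y) (fun ψ _ hψ => ?_), ← hkY', hkY,
          Nat.cast_sum, Finset.mul_sum]
        · exact Finset.sum_congr rfl fun η hη' => by rw [hη η hη' g hreg, mul_comm]
        · by_cases h1 : ψ = Chars.trivialIrr G
          · rw [h1, hk0, Nat.cast_zero, zero_mul]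
          by_cases h2 : ψ = S.chi
          · rw [h2, hkχ, Nat.cast_zero, zero_mul]
          · rw [hoth ψ h1 h2 hψ, Nat.cast_zero, zero_mul]
      have e3 := hα g
      rw [hval, hη _ (S.mem t₀ ht₀) g hreg, hη _ (S.mem t₀ ht₀) _ hreg2] at e3
      have e4 : (f (g * g) : ℤ) - 2 = ((f g : ℤ) - 2) * ((f g : ℤ) + 1 - p) := by
        have hpC : (p : ℂ) = (S.Y.card : ℂ) * 2 + 1 := by exact_mod_cast hr.symm
        rw [← Int.cast_inj (α := ℂ)]
        rw [Nat.cast_sub (by omega : 1 ≤ S.Y.card)] at e3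
        push_cast at e3 ⊢
        linear_combination e3 + ((f g : ℂ) - 2) * hpC
      have hle : f g ≤ f (g * g) := Nat.card_mono (Set.toFinite _) fun w (hw : g • w = w) => by
        show (g * g) • w = w
        rw [mul_smul, hw, hw]
      have : ((f g : ℤ) - 2) * ((f g : ℤ) + 1 - p) ≤ 0 :=
        mul_nonpos_of_nonneg_of_nonpos (by omega) (by have := hflt g hg1; omega)
      omega
    -- the square of chi: the order
    have hreal : ∀ g, conj ((S.chi : G → ℂ) g) = (S.chi : G → ℂ) g := fun g => by simp [hchi]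
    obtain ⟨k, hk⟩ := Chars.isCharacter_exists_nat_decomp
      (Chars.isCharacter_mul (Chars.irr_isCharacter S.chi) (Chars.irr_isCharacter S.chi))
    have hkapp : ∀ g, ∑ ψ : IrrCharacter G, (k ψ : ℂ) * (ψ : G → ℂ) g =
        (S.chi : G → ℂ) g * (S.chi : G → ℂ) g := fun g => by
      have := congrFun hk g
      rw [Pi.mul_apply, Finset.sum_apply] at this
      rw [this]; rfl
    have hk1 : k (Chars.trivialIrr G) = 1 := by
      have e1 : classInner ((S.chi : G → ℂ) * (S.chi : G → ℂ)) (Chars.trivialIrr G : G → ℂ) = 1 := by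
        rw [← Chars.classInner_irr_self S.chi]
        simp [classInner, hreal]
      rw [hk, Chars.classInner_sum_smul_irr] at e1
      exact_mod_cast e1
    have hkY : ∀ η ∈ S.Y, k η = k S.chi := by
      intro η hη'
      obtain ⟨t, ht, rfl⟩ := hrep η hη'
      have e1 := TwoShape.coeff_eq_neg h (b := fun t => (k (S.ζ t) : ℂ)) (k := -(k S.chi : ℂ)) (fun x hx => by
        have e2 := S.sum_apply_eq k hx
        rw [hkapp, hk1, S.value_chi x hx, ha, hδ] at e2
        push_cast at e2
        linear_combination e2) ht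
      rw [neg_neg] at e1
      exact_mod_cast e1
    obtain ⟨hb3, -⟩ := S.degree_bound k (N := (p - 1) * (p - 1)) (by
      rw [hkapp, ← (HeightZero.charDegree_eq S.chi).1, ← hd, hdp, Nat.cast_mul])
    rw [hYsum k, Finset.sum_congr rfl hkY, Finset.sum_const, smul_eq_mul, hk1, hep, ← hd, hdp] at hb3
    have hM : k S.chi ≤ 1 := by
      by_contra hne
      have h1 : 2 * (p - 1) ≤ k S.chi * (p - 1) := Nat.mul_le_mul_right _ (by omega)
      have h2 : S.Y.card * 2 * (p - 2) ≤ S.Y.card * k S.chi * (p - 2) :=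
        Nat.mul_le_mul_right _ (Nat.mul_le_mul_left _ (by omega))
      obtain ⟨q, rfl⟩ : ∃ q, p = q + 2 := ⟨p - 2, by omega⟩
      simp only [Nat.add_sub_cancel, show q + 2 - 1 = q + 1 by omega] at hb3 h1 h2
      have h3 : S.Y.card * 2 = q + 1 := by omega
      rw [h3] at h2
      have : (q + 1) * (q + 1) = q * q + 2 * q + 1 := by ring
      have : (q + 1) * q = q * q + q := by ring
      omega
    -- the third moment
    have hcube : (k S.chi : ℂ) * (Nat.card G : ℂ) = (p : ℂ) * ((p : ℂ) - 1) * ((p : ℂ) - 2) := by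
      have e1 : classInner ((S.chi : G → ℂ) * (S.chi : G → ℂ)) (S.chi : G → ℂ) = (k S.chi : ℂ) := by
        rw [hk, Chars.classInner_sum_smul_irr]
      have hsum0 : ∑ g : G, ((f g : ℂ) - 1) = 0 := by
        have e2 : classInner (S.chi : G → ℂ) (Chars.trivialIrr G : G → ℂ) = 0 :=
          Chars.classInner_irr_of_ne S.chi_ne
        simp only [classInner, show ∀ g, (Chars.trivialIrr G : G → ℂ) g = 1 from fun _ => rfl, map_one,
          mul_one, hchi, mul_eq_zero, inv_eq_zero] at e2
        exact e2.resolve_left Chars.natCard_ne_zero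
      simp only [classInner, Pi.mul_apply, hreal] at e1
      simp only [hchi] at e1
      rw [← e1, mul_comm, ← mul_assoc, mul_inv_cancel₀ Chars.natCard_ne_zero, one_mul,
        Finset.sum_congr rfl (g := fun g : G => ((f g : ℂ) - 1) +
          if g = 1 then (p : ℂ) * ((p : ℂ) - 1) * ((p : ℂ) - 2) else 0) (fun g _ => ?_),
        Finset.sum_add_distrib, hsum0, Finset.sum_ite_eq', if_pos (Finset.mem_univ _), zero_add]
      by_cases hg : g = 1
      · rw [if_pos hg, hg, hf1]; ring
      · rw [if_neg hg, add_zero]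
        have : f g < 3 := Nat.lt_of_not_le fun h3 => hg (hfix g h3)
        interval_cases (f g) <;> norm_num
    have hM1 : k S.chi = 1 := by
      refine le_antisymm hM (Nat.pos_of_ne_zero fun h0 => ?_)
      rw [h0, Nat.cast_zero, zero_mul, eq_comm, mul_eq_zero, mul_eq_zero, Nat.cast_eq_zero,
        sub_eq_zero, sub_eq_zero] at hcube
      rcases hcube with (h1 | h1) | h1
      · omega
      · exact absurd (Nat.cast_eq_one.1 h1) (by omega)
      · exact absurd (show p = 2 by exact_mod_cast h1) (by omega)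
    have hcard : Nat.card G = p.descFactorial 3 := by
      rw [hM1, Nat.cast_one, one_mul] at hcube
      rw [← Nat.cast_inj (R := ℂ), hcube]
      simp [Nat.descFactorial, Nat.cast_sub hpp.one_le, Nat.cast_sub hpp.two_le]
      ring
    refine ⟨⟨fun x y => ?_⟩, hfix⟩
    have hinj : Function.Injective (fun g : G => g • x) := fun g g' hgg => by
      refine inv_mul_eq_one.1 (hfix _ ?_)
      have hfix' : ∀ i, (g⁻¹ * g') • x i = x i := fun i => by
        rw [mul_smul, inv_smul_eq_iff]; exact (DFunLike.congr_fun hgg i).symm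
      refine le_trans (by simp) (Nat.card_le_card_of_injective
        (fun i => (⟨x i, hfix' i⟩ : fixedBy Ω (g⁻¹ * g'))) fun i j hij => x.injective (congrArg Subtype.val hij))
    exact (hinj.bijective_of_nat_card_le (by
      rw [hcard, Nat.card_eq_fintype_card, Fintype.card_embedding_eq, Fintype.card_fin, hΩ])).2 y

end Cfsg.Agent.Lib.Blocks.FrobeniusSylow
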